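import Groth.Agent.ProjTopLib.FG
import Groth.Agent.ProjTopLib.Noeth
import Mathlib.RingTheory.IntegralClosure.IsIntegralClosure.Basic

/-!
# High degrees of finitely generated graded rings and modules; Veronese subrings
-/

set_option autoImplicit false
universe u

open scoped Classical

noncomputable section

namespace GradedAlgLib

variable {R A : Type u} [CommRing R] [CommRing A] [Algebra R A] (𝒜 : ℕ → Submodule R A) [GradedAlgebra 𝒜]

theorem mul_le_add (i j : ℕ) : 𝒜 i * 𝒜 j ≤ 𝒜 (i + j) :=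
  Submodule.mul_le.mpr fun _ ha _ hb => SetLike.mul_mem_graded ha hb

/-- finitely many powers of the generators, over which the ring is finite -/
theorem exists_finite_over [Algebra.FiniteType (𝒜 0) A] :
    ∃ (D : ℕ) (F : Finset A), 0 < D ∧ (∀ f ∈ F, f ∈ 𝒜 D) ∧
      Module.Finite (Algebra.adjoin (𝒜 0) (F : Set A)) A := by
  obtain ⟨s, hs, hspan⟩ := ProjTopLib.exists_homogeneous_gens 𝒜 (ProjTopLib.fg_of_finiteType 𝒜)
  have hadj := ProjTopLib.adjoin_eq_top_of_span 𝒜 hs hspan.le
  choose! d hd hmem using hs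
  let D := ∏ e ∈ s, d e
  have hD : 0 < D := Finset.prod_pos hd
  have hdvd : ∀ e ∈ s, d e ∣ D := fun e he => Finset.dvd_prod_of_mem d he
  have hpos : ∀ e ∈ s, 0 < D / d e := fun e he => Nat.div_pos (Nat.le_of_dvd hD (hdvd e he)) (hd e he)
  let F := s.image fun e => e ^ (D / d e)
  have hF : ∀ f ∈ F, f ∈ 𝒜 D := fun f hf => by
    obtain ⟨e, he, rfl⟩ := Finset.mem_image.mp hf
    have := SetLike.pow_mem_graded (D / d e) (hmem e he)
    rwa [smul_eq_mul, Nat.div_mul_cancel (hdvd e he)] at this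
  refine ⟨D, F, hD, hF, ?_⟩
  have : Algebra.FiniteType (Algebra.adjoin (𝒜 0) (F : Set A)) A :=
    Algebra.FiniteType.of_restrictScalars_finiteType (𝒜 0) _ A
  have : Algebra.IsIntegral (Algebra.adjoin (𝒜 0) (F : Set A)) A := ⟨fun a => by
    have ha : a ∈ Algebra.adjoin (𝒜 0) (s : Set A) := hadj ▸ trivial
    induction ha using Algebra.adjoin_induction with
    | mem e he =>
      exact IsIntegral.of_pow (hpos e he) (isIntegral_algebraMap
        (x := (⟨e ^ (D / d e), Algebra.subset_adjoin (Finset.mem_image_of_mem _ he)⟩ :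
          Algebra.adjoin (𝒜 0) (F : Set A))))
    | algebraMap r =>
      rw [IsScalarTower.algebraMap_apply (𝒜 0) (Algebra.adjoin (𝒜 0) (F : Set A)) A]
      exact isIntegral_algebraMap
    | add a b _ _ ha hb => exact ha.add hb
    | mul a b _ _ ha hb => exact ha.mul hb⟩
  exact Algebra.IsIntegral.finite (R := Algebra.adjoin (𝒜 0) (F : Set A)) (A := A)

/-- high degrees are products -/
theorem exists_mul_le [Algebra.FiniteType (𝒜 0) A] :
    ∃ D c : ℕ, 0 < D ∧ ∀ p, c < p → 𝒜 p ≤ 𝒜 D * 𝒜 (p - D) := by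
  obtain ⟨D, F, hD, hF, hfin⟩ := exists_finite_over 𝒜
  obtain ⟨G, hG⟩ := Module.finite_def.mp hfin
  let B := Algebra.adjoin (𝒜 0) (F : Set A)
  let c := G.sup fun g => (DirectSum.decompose 𝒜 g).support.sup id
  refine ⟨D, c, hD, fun p hp a ha => ?_⟩
  have hdec : ∀ b ∈ B, ∃ r : 𝒜 0, b - (r : A) ∈ Ideal.span (F : Set A) := fun b hb => by
    induction hb using Algebra.adjoin_induction with
    | mem e he => exact ⟨0, by rw [ZeroMemClass.coe_zero, sub_zero]; exact Ideal.subset_span he⟩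
    | algebraMap r =>
      exact ⟨r, by rw [show algebraMap (𝒜 0) A r = (r : A) from rfl, sub_self]; exact zero_mem _⟩
    | add a b _ _ ha hb =>
      obtain ⟨r, hr⟩ := ha
      obtain ⟨r', hr'⟩ := hb
      exact ⟨r + r', by rw [Submodule.coe_add, add_sub_add_comm]; exact add_mem hr hr'⟩
    | mul a b _ _ ha hb =>
      obtain ⟨r, hr⟩ := ha
      obtain ⟨r', hr'⟩ := hb
      refine ⟨r * r', ?_⟩
      rw [SetLike.GradeZero.coe_mul, show a * b - (r : A) * r' = a * (b - r') + r' * (a - r) by ring]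
      exact add_mem (Ideal.mul_mem_left _ _ hr') (Ideal.mul_mem_left _ _ hr)
  -- modulo the ideal of `F`, only low degrees survive
  have hkey : ∀ x ∈ Ideal.span (F : Set A), (DirectSum.decompose 𝒜 x p : A) ∈ 𝒜 D * 𝒜 (p - D) := by
    intro x hx
    obtain ⟨w, -, hw⟩ := Submodule.mem_span_finset.mp hx
    rw [← hw, DirectSum.decompose_sum, DFinsupp.finsetSum_apply, Submodule.coe_sum]
    refine Submodule.sum_mem _ fun f hf => ?_
    rw [smul_eq_mul]
    by_cases hle : D ≤ p
    · rw [DirectSum.coe_decompose_mul_of_right_mem_of_le 𝒜 (hF f hf) hle, mul_comm (𝒜 D)]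
      exact Submodule.mul_mem_mul (SetLike.coe_mem _) (hF f hf)
    · rw [DirectSum.coe_decompose_mul_of_right_mem_of_not_le 𝒜 (hF f hf) hle]
      exact zero_mem _
  obtain ⟨w, -, hw⟩ := Submodule.mem_span_finset.mp (hG.ge (Submodule.mem_top (x := a)))
  rw [← DirectSum.decompose_of_mem_same 𝒜 ha, ← hw, DirectSum.decompose_sum, DFinsupp.finsetSum_apply,
    Submodule.coe_sum]
  refine Submodule.sum_mem _ fun g hg => ?_
  obtain ⟨r, hr⟩ := hdec (w g : A) (w g).2
  have hg0 : (DirectSum.decompose 𝒜 g p : A) = 0 := by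
    by_contra hne
    have h1 : p ∈ (DirectSum.decompose 𝒜 g).support :=
      DFinsupp.mem_support_iff.mpr fun h0 => hne (congrArg Subtype.val h0)
    have h2 : p ≤ c := (Finset.le_sup (f := id) h1).trans
      (Finset.le_sup (f := fun g => (DirectSum.decompose 𝒜 g).support.sup id) hg)
    omega
  rw [Subalgebra.smul_def, smul_eq_mul, show (w g : A) * g = ((w g : A) - r) * g + (r : A) * g by ring,
    DirectSum.decompose_add, DirectSum.add_apply, Submodule.coe_add]
  refine add_mem (hkey _ (Ideal.mul_mem_right _ _ hr)) ?_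
  rw [DirectSum.coe_decompose_mul_of_left_mem_of_le 𝒜 r.2 (Nat.zero_le p), Nat.sub_zero, hg0, mul_zero]
  exact zero_mem _

theorem le_mul_iterate {D c : ℕ} (h : ∀ p, c < p → 𝒜 p ≤ 𝒜 D * 𝒜 (p - D)) :
    ∀ t p, 0 < t → c + (t - 1) * D < p → 𝒜 p ≤ 𝒜 (t * D) * 𝒜 (p - t * D)
  | 0, _, h0, _ => absurd h0 (lt_irrefl 0)
  | 1, p, _, hp => by simpa using h p (by omega)
  | t + 2, p, _, hp => by
    have ih := le_mul_iterate h (t + 1) p (Nat.succ_pos t) (by
      simp only [Nat.add_sub_cancel] at hp ⊢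
      rw [show t + 2 - 1 = t + 1 by omega, add_mul] at hp
      omega)
    refine ih.trans ?_
    refine (mul_le_mul' le_rfl (h (p - (t + 1) * D) ?_)).trans ?_
    · rw [show t + 2 - 1 = t + 1 by omega] at hp
      omega
    · rw [← mul_assoc, Nat.sub_sub, show (t + 1) * D + D = (t + 2) * D by ring]
      refine mul_le_mul' ((mul_le_add 𝒜 _ _).trans (le_of_eq ?_)) le_rfl
      rw [show (t + 1) * D + D = (t + 2) * D by ring]

theorem exists_pow_degree [Algebra.FiniteType (𝒜 0) A] :
    ∃ h : ℕ, 0 < h ∧ ∀ m : ℕ, 0 < m → 𝒜 (m * h) = (𝒜 h : Submodule R A) ^ m := by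
  obtain ⟨D, c, hD, hle⟩ := exists_mul_le 𝒜
  refine ⟨(c + 1) * D, Nat.mul_pos (Nat.succ_pos c) hD, fun m hm => ?_⟩
  induction m with
  | zero => exact absurd hm (lt_irrefl 0)
  | succ m ih =>
    rcases Nat.eq_zero_or_pos m with rfl | hm0
    · rw [zero_add, one_mul, pow_one]
    · rw [pow_succ, ← ih hm0]
      refine le_antisymm ?_ ((mul_le_add 𝒜 _ _).trans (le_of_eq (congrArg 𝒜 (by ring))))
      have h1 : c + (c + 1 - 1) * D < (m + 1) * ((c + 1) * D) := by
        have h2 : (c + 1) * D * 2 ≤ (c + 1) * D * (m + 1) := Nat.mul_le_mul_left _ (by omega)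
        have h3 : c + 1 ≤ (c + 1) * D := Nat.le_mul_of_pos_right _ hD
        rw [Nat.add_sub_cancel]
        have h4 : c * D ≤ (c + 1) * D := Nat.mul_le_mul_right _ (Nat.le_succ c)
        rw [mul_comm (m + 1)]
        omega
      refine (le_mul_iterate 𝒜 hle (c + 1) _ (Nat.succ_pos c) h1).trans (le_of_eq ?_)
      rw [mul_comm, add_mul m 1, one_mul, Nat.add_sub_cancel]

variable {M : Type u} [AddCommGroup M] [Module R M] [Module A M] [IsScalarTower R A M]
  (ℳ : ℕ → Submodule R M) [DirectSum.Decomposition ℳ] [SetLike.GradedSMul 𝒜 ℳ]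

theorem smul_le_add (i j : ℕ) : 𝒜 i • ℳ j ≤ ℳ (i + j) :=
  Submodule.smul_le.mpr fun _ ha _ hb => SetLike.GradedSMul.smul_mem ha hb

theorem exists_module_step [Algebra.FiniteType (𝒜 0) A] [Module.Finite A M] :
    ∃ n₁ h : ℕ, 0 < h ∧ ∀ n, n₁ ≤ n → ℳ (n + h) = (𝒜 h : Submodule R A) • (ℳ n : Submodule R M) := by
  obtain ⟨D, c, hD, hle⟩ := exists_mul_le 𝒜
  obtain ⟨G, hG⟩ := Module.finite_def.mp ‹Module.Finite A M›
  let e := G.sup fun z => (DirectSum.decompose ℳ z).support.sup id
  refine ⟨c + e + 1, D, hD, fun n hn => le_antisymm (fun m hm => ?_)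
    ((smul_le_add 𝒜 ℳ D n).trans (le_of_eq (by rw [add_comm])))⟩
  -- components of the generators
  obtain ⟨w, -, hw⟩ := Submodule.mem_span_finset.mp (hG.ge (Submodule.mem_top (x := m)))
  rw [← DirectSum.decompose_of_mem_same ℳ hm, ← hw, DirectSum.decompose_sum, DFinsupp.finsetSum_apply,
    Submodule.coe_sum]
  refine Submodule.sum_mem _ fun z hz => ?_
  generalize w z = a₀
  rw [← DirectSum.sum_support_decompose ℳ z, Finset.smul_sum, DirectSum.decompose_sum,
    DFinsupp.finsetSum_apply, Submodule.coe_sum]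
  refine Submodule.sum_mem _ fun k hk => ?_
  have hke : k ≤ e := (Finset.le_sup (f := id) hk).trans
    (Finset.le_sup (f := fun z => (DirectSum.decompose ℳ z).support.sup id) hz)
  obtain ⟨l, hl⟩ : ∃ l, n + D = l + k := ⟨n + D - k, by omega⟩
  have hcomp : ∀ (a : A) (x : M), x ∈ ℳ k →
      (DirectSum.decompose ℳ (a • x) (n + D) : M) = (DirectSum.decompose 𝒜 a l : A) • x := by
    intro a x hx
    induction a using DirectSum.Decomposition.inductionOn (ℳ := 𝒜) with
    | zero => simp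
    | @homogeneous i a =>
      have h1 : (a : A) • x ∈ ℳ (i + k) := SetLike.GradedSMul.smul_mem a.2 hx
      by_cases h : i = l
      · subst h
        rw [hl, DirectSum.decompose_of_mem_same ℳ h1, DirectSum.decompose_of_mem_same 𝒜 a.2]
      · rw [DirectSum.decompose_of_mem_ne ℳ h1 (by omega), DirectSum.decompose_of_mem_ne 𝒜 a.2 h, zero_smul]
    | add a b ha hb =>
      rw [add_smul, DirectSum.decompose_add, DirectSum.add_apply, Submodule.coe_add, ha, hb,
        DirectSum.decompose_add, DirectSum.add_apply, Submodule.coe_add, add_smul]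
  rw [hcomp _ _ (SetLike.coe_mem _)]
  have h1 : (DirectSum.decompose 𝒜 a₀ l : A) ∈ 𝒜 D * 𝒜 (l - D) := hle l (by omega) (SetLike.coe_mem _)
  suffices H : (𝒜 D * 𝒜 (l - D)) • ℳ k ≤ 𝒜 D • ℳ n from H (Submodule.smul_mem_smul h1 (SetLike.coe_mem _))
  refine Submodule.smul_le.mpr ?_
  intro a ha x hx
  induction ha using Submodule.mul_induction_on' with
  | mem_mul_mem b hb c hc =>
    rw [mul_smul]
    refine Submodule.smul_mem_smul hb ?_
    have h2 : c • x ∈ ℳ ((l - D) + k) := SetLike.GradedSMul.smul_mem hc hx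
    rwa [show (l - D) + k = n by omega] at h2
  | add a _ b _ ha hb => rw [add_smul]; exact add_mem ha hb

section Veronese

variable {B : Type u} [CommRing B] [Algebra R B] (ℬ : ℕ → Submodule R B) [GradedAlgebra ℬ] {d : ℕ} (hd : 0 < d)
  (φ : B →ₐ[R] A) (hdeg : ∀ n : ℕ, Submodule.map φ.toLinearMap (ℬ n) = 𝒜 (n * d))

/-- projection to the degrees divisible by `d` -/
def proj (d : ℕ) : A →+ A where
  toFun a := ∑ k ∈ (DirectSum.decompose 𝒜 a).support with d ∣ k, (DirectSum.decompose 𝒜 a k : A)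
  map_zero' := by simp
  map_add' a b := by
    have key : ∀ (S : Finset ℕ) (x : A), (DirectSum.decompose 𝒜 x).support ⊆ S →
        ∑ k ∈ (DirectSum.decompose 𝒜 x).support with d ∣ k, (DirectSum.decompose 𝒜 x k : A) =
          ∑ k ∈ S with d ∣ k, (DirectSum.decompose 𝒜 x k : A) := fun S x hS => by
      refine Finset.sum_subset (Finset.filter_subset_filter _ hS) fun k hk hk' => ?_
      have h0 : DirectSum.decompose 𝒜 x k = 0 := DFinsupp.notMem_support_iff.mp fun h =>
        hk' (Finset.mem_filter.mpr ⟨h, (Finset.mem_filter.mp hk).2⟩)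
      rw [h0]; rfl
    let S := (DirectSum.decompose 𝒜 a).support ∪ (DirectSum.decompose 𝒜 b).support ∪
      (DirectSum.decompose 𝒜 (a + b)).support
    rw [key S (a + b) Finset.subset_union_right,
      key S a (Finset.subset_union_left.trans Finset.subset_union_left),
      key S b (Finset.subset_union_right.trans Finset.subset_union_left), ← Finset.sum_add_distrib]
    refine Finset.sum_congr rfl fun k _ => ?_
    rw [DirectSum.decompose_add, DirectSum.add_apply, Submodule.coe_add]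

theorem proj_of_mem {k : ℕ} {a : A} (ha : a ∈ 𝒜 k) : proj 𝒜 d a = if d ∣ k then a else 0 := by
  change ∑ j ∈ (DirectSum.decompose 𝒜 a).support with d ∣ j, (DirectSum.decompose 𝒜 a j : A) = _
  rw [Finset.sum_filter]
  refine (Finset.sum_eq_single k (fun j _ hj => ?_) (fun h => ?_)).trans ?_
  · rw [DirectSum.decompose_of_mem_ne 𝒜 ha hj.symm, ite_self]
  · have h0 : DirectSum.decompose 𝒜 a k = 0 := DFinsupp.notMem_support_iff.mp h
    rw [h0, ZeroMemClass.coe_zero, ite_self]
  · rw [DirectSum.decompose_of_mem_same 𝒜 ha]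

include hdeg in
theorem exists_of_mem {n : ℕ} {a : A} (ha : a ∈ 𝒜 (n * d)) : ∃ b ∈ ℬ n, φ b = a := by
  rw [← hdeg] at ha
  obtain ⟨b, hb, rfl⟩ := ha
  exact ⟨b, hb, rfl⟩

include hdeg in
theorem map_mem {n : ℕ} {b : B} (hb : b ∈ ℬ n) : φ b ∈ 𝒜 (n * d) :=
  hdeg n ▸ Submodule.mem_map_of_mem (f := φ.toLinearMap) hb

include hdeg in
theorem proj_mem_range (a : A) : proj 𝒜 d a ∈ φ.range := by
  induction a using DirectSum.Decomposition.inductionOn (ℳ := 𝒜) with
  | zero => rw [map_zero]; exact zero_mem _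
  | @homogeneous k a =>
    rw [proj_of_mem 𝒜 a.2]
    split_ifs with h
    · obtain ⟨l, rfl⟩ := h
      obtain ⟨b, -, hb⟩ := exists_of_mem 𝒜 ℬ φ hdeg (n := l) (a := (a : A))
        (by rw [mul_comm]; exact a.2)
      exact ⟨b, hb⟩
    · exact zero_mem _
  | add a b ha hb => rw [map_add]; exact add_mem ha hb

include hdeg hd in
theorem proj_map_mul (b : B) (a : A) : proj 𝒜 d (φ b * a) = φ b * proj 𝒜 d a := by
  induction b using DirectSum.Decomposition.inductionOn (ℳ := ℬ) with
  | zero => simp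
  | @homogeneous n b =>
    induction a using DirectSum.Decomposition.inductionOn (ℳ := 𝒜) with
    | zero => simp
    | @homogeneous k a =>
      have hb := map_mem 𝒜 ℬ φ hdeg b.2
      rw [proj_of_mem 𝒜 (SetLike.mul_mem_graded hb a.2), proj_of_mem 𝒜 a.2]
      have : d ∣ n * d + k ↔ d ∣ k := Nat.dvd_add_right (Dvd.intro_left n rfl)
      split_ifs with h1 h2 h2
      · rfl
      · exact absurd (this.mp h1) h2
      · exact absurd (this.mpr h2) h1
      · rw [mul_zero]
    | add x y hx hy => rw [mul_add, map_add, hx, hy, map_add, mul_add]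
  | add x y hx hy => rw [map_add, add_mul, map_add, hx, hy, add_mul]

include hdeg hd in
theorem proj_map (b : B) : proj 𝒜 d (φ b) = φ b := by
  have h := proj_map_mul 𝒜 ℬ hd φ hdeg b 1
  rwa [mul_one, proj_of_mem 𝒜 (SetLike.GradedOne.one_mem (A := 𝒜)), if_pos (dvd_zero d), mul_one] at h

include hdeg hd in
theorem veronese_isNoetherianRing (hφ : Function.Injective φ) [IsNoetherianRing A] : IsNoetherianRing B := by
  have hcontr : ∀ I : Ideal B, (I.map φ).comap φ = I := by
    intro I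
    refine le_antisymm (fun b hb => ?_) Ideal.le_comap_map
    have key' : ∀ x ∈ I.map φ, ∀ a : A, ∃ c ∈ I, φ c = proj 𝒜 d (a * x) := by
      intro x hx
      rw [Ideal.map] at hx
      induction hx using Submodule.span_induction with
      | mem x hx =>
        intro a
        obtain ⟨c, hc, rfl⟩ := hx
        obtain ⟨p, hp⟩ := proj_mem_range 𝒜 ℬ φ hdeg a
        refine ⟨c * p, Ideal.mul_mem_right _ _ hc, ?_⟩
        rw [map_mul, mul_comm a, proj_map_mul 𝒜 ℬ hd φ hdeg]
        exact congrArg (φ c * ·) hp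
      | zero => intro a; exact ⟨0, zero_mem _, by simp⟩
      | add x y _ _ ihx ihy =>
        intro a
        obtain ⟨c, hc, e⟩ := ihx a
        obtain ⟨c', hc', e'⟩ := ihy a
        exact ⟨c + c', add_mem hc hc', by rw [mul_add, map_add, map_add, e, e']⟩
      | smul b x _ ih =>
        intro a
        obtain ⟨c, hc, e⟩ := ih (a * b)
        exact ⟨c, hc, by rw [smul_eq_mul, ← mul_assoc]; exact e⟩
    have key : ∀ x ∈ I.map φ, ∃ c ∈ I, φ c = proj 𝒜 d x := fun x hx => by simpa using key' x hx 1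
    obtain ⟨c, hc, e⟩ := key _ hb
    rw [proj_map 𝒜 ℬ hd φ hdeg b] at e
    exact hφ e ▸ hc
  have hmono : StrictMono fun I : Ideal B => I.map φ := fun I J hIJ =>
    lt_of_le_of_ne (Ideal.map_mono hIJ.le) fun e => hIJ.ne (by
      rw [← hcontr I, ← hcontr J]; exact congrArg (Ideal.comap φ) e)
  rw [isNoetherianRing_iff, isNoetherian_iff']
  exact hmono.wellFoundedGT

include hdeg hd in
theorem veronese_finiteType (hφ : Function.Injective φ) [Algebra.FiniteType (𝒜 0) A] :
    Algebra.FiniteType (ℬ 0) B := by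
  obtain ⟨s, hs, hspan⟩ := ProjTopLib.exists_homogeneous_gens 𝒜 (ProjTopLib.fg_of_finiteType 𝒜)
  have hadj := ProjTopLib.adjoin_eq_top_of_span 𝒜 hs hspan.le
  let C := Algebra.adjoin (𝒜 0) ((fun e : A => e ^ d) '' (s : Set A))
  have : Algebra.FiniteType C A := Algebra.FiniteType.of_restrictScalars_finiteType (𝒜 0) C A
  have : Algebra.IsIntegral C A := ⟨fun a => by
    have ha : a ∈ Algebra.adjoin (𝒜 0) (s : Set A) := hadj ▸ trivial
    induction ha using Algebra.adjoin_induction with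
    | mem e he =>
      exact IsIntegral.of_pow hd (isIntegral_algebraMap (x := (⟨e ^ d, Algebra.subset_adjoin ⟨e, he, rfl⟩⟩ : C)))
    | algebraMap r =>
      rw [IsScalarTower.algebraMap_apply (𝒜 0) C A]
      exact isIntegral_algebraMap
    | add a b _ _ ha hb => exact ha.add hb
    | mul a b _ _ ha hb => exact ha.mul hb⟩
  obtain ⟨G, hG⟩ := Module.finite_def.mp (Algebra.IsIntegral.finite (R := C) (A := A))
  have h1 : ∀ e ∈ s, ∃ b, φ b = e ^ d := fun e he => by
    obtain ⟨k, -, hk⟩ := hs e he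
    obtain ⟨b, -, hb⟩ := exists_of_mem 𝒜 ℬ φ hdeg (n := k) (a := e ^ d)
      (by rw [mul_comm]; simpa using SetLike.pow_mem_graded d hk)
    exact ⟨b, hb⟩
  choose! p hp using h1
  have h2 : ∀ g : A, ∃ b, φ b = proj 𝒜 d g := fun g => proj_mem_range 𝒜 ℬ φ hdeg g
  choose q hq using h2
  let T := Algebra.adjoin (ℬ 0) ((s.image p ∪ G.image q : Finset B) : Set B)
  refine ⟨⟨s.image p ∪ G.image q, eq_top_iff.mpr fun b _ => ?_⟩⟩
  have hC : ∀ c ∈ C, ∃ t ∈ T, φ t = c := fun c hc => by
    induction hc using Algebra.adjoin_induction with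
    | mem x hx =>
      obtain ⟨e, he, rfl⟩ := hx
      exact ⟨p e, Algebra.subset_adjoin (Finset.mem_coe.mpr (Finset.mem_union_left _ (Finset.mem_image_of_mem _ he))),
        hp e he⟩
    | algebraMap r =>
      obtain ⟨b', hb', e⟩ := exists_of_mem 𝒜 ℬ φ hdeg (n := 0) (a := (r : A)) (by rw [zero_mul]; exact r.2)
      exact ⟨b', Subalgebra.algebraMap_mem T ⟨b', hb'⟩, e⟩
    | add x y _ _ hx hy =>
      obtain ⟨t, ht, e⟩ := hx
      obtain ⟨t', ht', e'⟩ := hy
      exact ⟨t + t', add_mem ht ht', by rw [map_add, e, e']⟩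
    | mul x y _ _ hx hy =>
      obtain ⟨t, ht, e⟩ := hx
      obtain ⟨t', ht', e'⟩ := hy
      exact ⟨t * t', mul_mem ht ht', by rw [map_mul, e, e']⟩
  obtain ⟨w, -, hw⟩ := Submodule.mem_span_finset.mp (hG.ge (Submodule.mem_top (x := φ b)))
  have hw' : φ b = ∑ g ∈ G, (w g : A) * proj 𝒜 d g := by
    rw [← proj_map 𝒜 ℬ hd φ hdeg b, ← hw, map_sum]
    refine Finset.sum_congr rfl fun g _ => ?_
    obtain ⟨t, -, e⟩ := hC _ (w g).2
    rw [Subalgebra.smul_def, smul_eq_mul, ← e, proj_map_mul 𝒜 ℬ hd φ hdeg]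
  choose t ht he using fun g => hC (w g : A) (w g).2
  have hb : b = ∑ g ∈ G, t g * q g := hφ (by
    rw [hw', map_sum]
    exact Finset.sum_congr rfl fun g _ => by rw [map_mul, he, hq])
  rw [hb]
  exact sum_mem fun g hg => mul_mem (ht g)
    (Algebra.subset_adjoin (Finset.mem_coe.mpr (Finset.mem_union_right _ (Finset.mem_image_of_mem _ hg))))

end Veronese

end GradedAlgLib

end
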